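import Mathlib.RingTheory.Smooth.Locus
import Mathlib.RingTheory.Smooth.Field
import Mathlib.RingTheory.Localization.AtPrime.Basic
import Mathlib.RingTheory.FinitePresentation
import Mathlib.Algebra.Field.Subfield.Basic

/-!
# Smooth models of finitely generated fields
-/

set_option autoImplicit false

namespace Groth.L05.SmModel

universe u v

theorem exists_smooth_model (R : Type v) [CommRing R] [IsNoetherianRing R] (K : Type u) [Field K]
    [Algebra R K] [Algebra.FormallySmooth R K] (s : Finset K)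
    (hs : Subfield.closure (↑s : Set K) = ⊤) :
    ∃ A : Subalgebra R K, Algebra.FiniteType R A ∧ Algebra.Smooth R A ∧ IsFractionRing A K := by
  classical
  let A₀ : Subalgebra R K := Algebra.adjoin R (↑s : Set K)
  haveI hft : Algebra.FiniteType R A₀ :=
    (Subalgebra.fg_iff_finiteType _).mp (Subalgebra.fg_adjoin_finset s)
  haveI : Algebra.FinitePresentation R A₀ := Algebra.FinitePresentation.of_finiteType.mp hft
  have hfrac : ∀ B : Subalgebra R K, A₀ ≤ B → IsFractionRing B K := fun B hB =>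
    IsFractionRing.of_field B K fun z => by
      obtain ⟨y, hy, w, hw, rfl⟩ := Subfield.mem_closure_iff.mp (hs ▸ Subfield.mem_top z)
      have h : ∀ x ∈ Subring.closure (↑s : Set K), x ∈ B := fun x hx =>
        hB ((Subring.closure_le.mpr (Algebra.subset_adjoin (R := R)) : _ ≤ A₀.toSubring) hx)
      exact ⟨⟨y, h y hy⟩, ⟨w, h w hw⟩, rfl⟩
  haveI := hfrac A₀ le_rfl
  haveI : IsLocalization.AtPrime K (⊥ : Ideal A₀) := by
    show IsLocalization (⊥ : Ideal A₀).primeCompl K
    rw [show (⊥ : Ideal A₀).primeCompl = nonZeroDivisors A₀ by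
      ext x; simp [Ideal.mem_bot, mem_nonZeroDivisors_iff_ne_zero]]
    infer_instance
  haveI : Algebra.IsSmoothAt R (⊥ : Ideal A₀) :=
    Algebra.FormallySmooth.of_equiv
      ((IsLocalization.algEquiv (⊥ : Ideal A₀).primeCompl K (Localization.AtPrime (⊥ : Ideal A₀))).restrictScalars R)
  obtain ⟨f, hf, hsm⟩ := Algebra.IsSmoothAt.exists_notMem_smooth (R := R) (⊥ : Ideal A₀)
  have hf0 : f ≠ 0 := fun h => hf (h ▸ Ideal.zero_mem _)
  have hfK : IsUnit (IsScalarTower.toAlgHom R A₀ K f) :=
    ((map_ne_zero_iff _ Subtype.val_injective).mpr hf0).isUnit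
  let φ : Localization.Away f →ₐ[R] K := IsLocalization.Away.liftAlgHom f hfK
  have hφ : ∀ a, φ (algebraMap A₀ _ a) = (a : K) := fun a => IsLocalization.Away.lift_eq f hfK a
  have hinj : Function.Injective φ := by
    refine (injective_iff_map_eq_zero φ).mpr fun x hx => ?_
    obtain ⟨n, a, ha⟩ := IsLocalization.Away.surj f x
    have h0 : (a : K) = 0 := by rw [← hφ a, ← ha, map_mul, hx, zero_mul]
    rw [show a = 0 from Subtype.ext h0, map_zero] at ha
    exact (IsUnit.mul_left_eq_zero ((IsLocalization.Away.algebraMap_isUnit f).pow n)).mp ha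
  have hle : A₀ ≤ φ.range := fun a ha => ⟨algebraMap A₀ _ ⟨a, ha⟩, hφ ⟨a, ha⟩⟩
  haveI := hsm
  let e : Localization.Away f ≃ₐ[R] φ.range := AlgEquiv.ofInjective φ hinj
  haveI : Algebra.Smooth R φ.range := Algebra.Smooth.of_equiv e
  exact ⟨φ.range, inferInstance, inferInstance, hfrac _ hle⟩

theorem essFiniteType (R : Type v) [CommRing R] (K : Type u) [Field K] [Algebra R K] (s : Finset K)
    (hs : Subfield.closure (↑s : Set K) = ⊤) : Algebra.EssFiniteType R K := by
  classical
  let A₀ : Subalgebra R K := Algebra.adjoin R (↑s : Set K)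
  haveI hft : Algebra.FiniteType R A₀ :=
    (Subalgebra.fg_iff_finiteType _).mp (Subalgebra.fg_adjoin_finset s)
  haveI : IsFractionRing A₀ K := IsFractionRing.of_field A₀ K fun z => by
    obtain ⟨y, hy, w, hw, rfl⟩ := Subfield.mem_closure_iff.mp (hs ▸ Subfield.mem_top z)
    have h : ∀ x ∈ Subring.closure (↑s : Set K), x ∈ A₀ := fun x hx =>
      (Subring.closure_le.mpr (Algebra.subset_adjoin (R := R)) : _ ≤ A₀.toSubring) hx
    exact ⟨⟨y, h y hy⟩, ⟨w, h w hw⟩, rfl⟩
  haveI : Algebra.EssFiniteType A₀ K := Algebra.EssFiniteType.of_isLocalization _ (nonZeroDivisors A₀)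
  exact Algebra.EssFiniteType.comp R A₀ K

end Groth.L05.SmModel
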